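import Groth.Prelude.Def_Models
import Groth.Prelude.Def_Coh
import Groth.Agent.FBaseLib.StalkLength

/-!
# Local rings of closed fibres over local base rings
-/

set_option autoImplicit false
set_option backward.isDefEq.respectTransparency false
set_option linter.style.haveILetI false

universe u

open CategoryTheory CategoryTheory.Limits AlgebraicGeometry IsLocalRing

namespace Groth.Agent.ModelLib7

variable {R : Type u} [CommRing R] {X : Scheme.{u}} (p : X ⟶ Spec (CommRingCat.of R))

/-- The structure map into a stalk, through the base stalk. -/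
theorem germ_toGlobal (x : X) (r : R) :
    (X.presheaf.germ ⊤ x trivial).hom (Coh.toGlobal p r) =
      (p.stalkMap x).hom ((Spec (CommRingCat.of R)).presheaf.germ ⊤ (p x) trivial
        ((Scheme.ΓSpecIso (CommRingCat.of R)).inv.hom r)) :=
  (Scheme.Hom.germ_stalkMap_apply p ⊤ x trivial _).symm

/-- The structure map into the stalk of a flat scheme is flat. -/
theorem flat_germ_toGlobal [Flat p] (x : X) :
    ((X.presheaf.germ ⊤ x trivial).hom.comp (Coh.toGlobal p)).Flat := by
  let y : PrimeSpectrum R := p x
  let α : R →+* (Spec (CommRingCat.of R)).presheaf.stalk (p x) :=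
    ((Spec (CommRingCat.of R)).presheaf.germ ⊤ (p x) trivial).hom.comp (Scheme.ΓSpecIso (CommRingCat.of R)).inv.hom
  have hα : α.Flat := by
    have e : CommRingCat.ofHom α = StructureSheaf.toStalk (CommRingCat.of R) (p x) := rfl
    letI : Algebra R ((Spec (CommRingCat.of R)).presheaf.stalk (p x)) :=
      (StructureSheaf.toStalk (CommRingCat.of R) (p x)).hom.toAlgebra
    haveI : IsLocalization.AtPrime ((Spec (CommRingCat.of R)).presheaf.stalk (p x)) y.asIdeal :=
      StructureSheaf.IsLocalization.to_stalk _ y
    have h : Module.Flat R ((Spec (CommRingCat.of R)).presheaf.stalk (p x)) := IsLocalization.flat _ y.asIdeal.primeCompl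
    rw [show α = (StructureSheaf.toStalk (CommRingCat.of R) (p x)).hom from congrArg CommRingCat.Hom.hom e]
    exact h
  have e : (X.presheaf.germ ⊤ x trivial).hom.comp (Coh.toGlobal p) = (p.stalkMap x).hom.comp α :=
    RingHom.ext fun r => germ_toGlobal p x r
  rw [e]
  exact hα.comp (Flat.stalkMap p x)

variable [IsLocalRing R]

/-- The local ring of the closed fibre is the local ring of the total space modulo the maximal ideal of the base. -/
theorem ker_stalkMap_closedFibre (z : ↥(pullback p (Spec.map (CommRingCat.ofHom (algebraMap R (ResidueField R)))))) :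
    Function.Surjective ((pullback.fst p (Spec.map (CommRingCat.ofHom (algebraMap R (ResidueField R))))).stalkMap z).hom ∧
    RingHom.ker ((pullback.fst p (Spec.map (CommRingCat.ofHom (algebraMap R (ResidueField R))))).stalkMap z).hom =
      (maximalIdeal R).map ((X.presheaf.germ ⊤
        ((pullback.fst p (Spec.map (CommRingCat.ofHom (algebraMap R (ResidueField R))))) z) trivial).hom.comp
          (Coh.toGlobal p)) := by
  let i : Spec (CommRingCat.of (ResidueField R)) ⟶ Spec (CommRingCat.of R) :=
    Spec.map (CommRingCat.ofHom (algebraMap R (ResidueField R)))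
  haveI : IsClosedImmersion i := IsClosedImmersion.spec_of_surjective _ residue_surjective
  haveI : IsClosedImmersion (pullback.fst p i) := MorphismProperty.pullback_fst _ _ inferInstance
  refine ⟨(pullback.fst p i).stalkMap_surjective z, ?_⟩
  rw [FBaseLib.StalkLength.ker_stalkMap_fst p i z ⟨⊤, isAffineOpen_top _⟩ trivial, Scheme.Hom.ker_apply]
  have hker : RingHom.ker (i.app ⊤).hom = (maximalIdeal R).map (Scheme.ΓSpecIso (CommRingCat.of R)).inv.hom := by
    let e := (Scheme.ΓSpecIso (CommRingCat.of R)).commRingCatIsoToRingEquiv
    let e' := (Scheme.ΓSpecIso (CommRingCat.of (ResidueField R))).commRingCatIsoToRingEquiv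
    have h1 : e'.toRingHom.comp (i.app ⊤).hom = (residue R).comp e.toRingHom :=
      congrArg CommRingCat.Hom.hom (Scheme.ΓSpecIso_naturality (CommRingCat.ofHom (algebraMap R (ResidueField R))))
    rw [← RingHom.ker_comp_of_injective (i.app ⊤).hom (f := e'.toRingHom) e'.injective, h1, ← RingHom.comap_ker,
      ker_residue]
    exact (Ideal.map_symm e).symm
  rw [hker, Ideal.map_map, Ideal.map_map]
  congr 1
  exact RingHom.ext fun r => (germ_toGlobal p _ r).symm

end Groth.Agent.ModelLib7
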