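import Mathlib.RingTheory.DiscreteValuationRing.Basic
import Mathlib.RingTheory.PrincipalIdealDomainOfPrime
import Mathlib.RingTheory.TensorProduct.Maps
import Mathlib.RingTheory.LocalRing.ResidueField.Basic
import Mathlib.RingTheory.Algebraic.Basic
import Mathlib.RingTheory.Polynomial.Basic
import Mathlib.RingTheory.Flat.Basic
import Mathlib.FieldTheory.IsAlgClosed.Basic
import Mathlib.RingTheory.Localization.Integral

/-!
# Tensor product of two discrete valuation rings over a discrete valuation ring
-/

set_option autoImplicit false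
set_option linter.style.haveILetI false

universe u

open IsLocalRing
open scoped TensorProduct Polynomial

namespace Groth.Agent.ModelLib7

variable (R : Type u) [CommRing R] [IsDomain R] [IsDiscreteValuationRing R]

/-- An element of a domain algebraic over a discrete valuation ring is, modulo a local ideal, algebraic over the
residue field. -/
theorem isIntegral_residue_of_isAlgebraic {R' : Type u} [CommRing R'] [IsDomain R'] [IsLocalRing R'] [Algebra R R']
    [IsLocalHom (algebraMap R R')] (hinj : Function.Injective (algebraMap R R')) {r : R'} (hr : IsAlgebraic R r) :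
    IsIntegral (ResidueField R) (residue R' r) := by
  obtain ⟨p, hp0, hp⟩ := hr
  obtain ⟨ϖ, hϖ⟩ := IsDiscreteValuationRing.exists_irreducible R
  have hC : ¬ IsUnit (Polynomial.C ϖ) := fun h => hϖ.not_isUnit (Polynomial.isUnit_C.1 h)
  obtain ⟨n, q, hq, hpq⟩ := WfDvdMonoid.max_power_factor' hp0 hC
  have hqr : Polynomial.aeval r q = 0 := by
    rw [hpq, map_mul, map_pow, Polynomial.aeval_C] at hp
    rcases mul_eq_zero.1 hp with h | h
    · exact absurd ((map_eq_zero_iff _ hinj).1 (pow_eq_zero_iff'.1 h).1) hϖ.ne_zero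
    · exact h
  apply IsAlgebraic.isIntegral
  refine ⟨q.map (residue R), fun h0 => hq ?_, ?_⟩
  · rw [Polynomial.C_dvd_iff_dvd_coeff]
    intro j
    have := congrArg (fun f => Polynomial.coeff f j) h0
    simp only [Polynomial.coeff_map, Polynomial.coeff_zero, residue_eq_zero_iff, hϖ.maximalIdeal_eq,
      Ideal.mem_span_singleton] at this
    exact this
  · have h := Polynomial.hom_eval₂ q (algebraMap R R') (residue R') r
    rw [← Polynomial.aeval_def, hqr, map_zero] at h
    rw [Polynomial.aeval_def, Polynomial.eval₂_map]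
    exact h.symm

variable [IsAlgClosed (ResidueField R)]

/-- `B ⊗ R'` is a discrete valuation ring, if `R'` is a generically algebraic extension of `R` with algebraically
closed residue field, `B` is weakly unramified over `R` and `Frac R' ⊗ B` is a field. -/
theorem isDVR_tensor_of_isField (B : Type u) [CommRing B] [IsDomain B] [IsDiscreteValuationRing B]
    [Algebra R B] [Module.Flat R B] (hmax : maximalIdeal B = (maximalIdeal R).map (algebraMap R B))
    (R' : Type u) [CommRing R'] [IsDomain R'] [IsDiscreteValuationRing R'] [Algebra R R']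
    (hinj : Function.Injective (algebraMap R R')) [IsLocalHom (algebraMap R R')]
    (halg : ∀ r : R', IsAlgebraic R r)
    (hfield : IsField (FractionRing R' ⊗[R] B)) :
    ∃ _ : IsDomain (B ⊗[R] R'), IsDiscreteValuationRing (B ⊗[R] R') := by
  let F := FractionRing R'
  let A := B ⊗[R] R'
  let ι : A →ₐ[R] F ⊗[R] B :=
    (Algebra.TensorProduct.comm R B F).toAlgHom.comp
      (Algebra.TensorProduct.map (AlgHom.id R B) (IsScalarTower.toAlgHom R R' F))
  have hι : ∀ b r, ι (b ⊗ₜ r) = algebraMap R' F r ⊗ₜ b := fun b r => rfl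
  have hιinj : Function.Injective ι := by
    have h1 : Function.Injective ((IsScalarTower.toAlgHom R R' F).toLinearMap.lTensor B) :=
      Module.Flat.lTensor_preserves_injective_linearMap (M := B) _ (IsFractionRing.injective R' F)
    refine (Algebra.TensorProduct.comm R B F).injective.comp ?_
    intro a b hab
    exact h1 hab
  letI := hfield.toField
  haveI : IsDomain A := hιinj.isDomain ι.toRingHom
  refine ⟨inferInstance, ?_⟩
  obtain ⟨π, hπ⟩ := IsDiscreteValuationRing.exists_irreducible R'
  obtain ⟨ϖ, hϖ⟩ := IsDiscreteValuationRing.exists_irreducible R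
  let P₀ : A := (1 : B) ⊗ₜ π
  -- residue fields
  haveI : IsLocalHom (algebraMap R B) := ⟨fun r hr => by
    by_contra h
    have : algebraMap R B r ∈ maximalIdeal B := hmax ▸ Ideal.mem_map_of_mem _ h
    exact this hr⟩
  haveI : Algebra.IsIntegral (ResidueField R) (ResidueField R') := ⟨fun y => by
    obtain ⟨r, rfl⟩ := residue_surjective y
    exact isIntegral_residue_of_isAlgebraic R hinj (halg r)⟩
  have hk := IsAlgClosed.algebraMap_bijective_of_isIntegral (k := ResidueField R) (K := ResidueField R')
  let σ : ResidueField R' →ₐ[R] ResidueField R :=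
    ((AlgEquiv.ofBijective (Algebra.ofId (ResidueField R) (ResidueField R')) hk).symm.restrictScalars R).toAlgHom
  let ψ : A →ₐ[R] ResidueField B :=
    Algebra.TensorProduct.productMap (IsScalarTower.toAlgHom R B (ResidueField B))
      (((IsScalarTower.toAlgHom R (ResidueField R) (ResidueField B)).comp σ).comp
        (IsScalarTower.toAlgHom R R' (ResidueField R')))
  have hψπ : ψ P₀ = 0 := by
    have h0 : algebraMap R' (ResidueField R') π = 0 := by
      rw [ResidueField.algebraMap_eq, residue_eq_zero_iff, hπ.maximalIdeal_eq]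
      exact Ideal.mem_span_singleton_self π
    show algebraMap B (ResidueField B) 1 * algebraMap (ResidueField R) (ResidueField B) (σ (algebraMap R' _ π)) = 0
    rw [h0, map_zero, map_zero, mul_zero]
  have hP : ∀ (b : B) (s : R'), P₀ * (b ⊗ₜ s) = b ⊗ₜ (π * s) := fun b s => by
    show ((1 : B) ⊗ₜ π : A) * (b ⊗ₜ s) = _
    exact (Algebra.TensorProduct.tmul_mul_tmul _ _ _ _).trans (by rw [one_mul])
  have hdec : ∀ x : A, ∃ (b : B) (a : A), x = b ⊗ₜ (1 : R') + P₀ * a := by
    intro x
    induction x using TensorProduct.induction_on with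
    | zero => exact ⟨0, 0, by simp⟩
    | add x y hx hy =>
      obtain ⟨b, a, rfl⟩ := hx
      obtain ⟨b', a', rfl⟩ := hy
      exact ⟨b + b', a + a', by rw [TensorProduct.add_tmul]; ring⟩
    | tmul b r =>
      obtain ⟨c', hc'⟩ := hk.2 (residue R' r)
      obtain ⟨c, rfl⟩ := residue_surjective c'
      have hm : r - algebraMap R R' c ∈ maximalIdeal R' := by
        rw [← residue_eq_zero_iff, map_sub, ← hc', sub_eq_zero]
        rfl
      rw [hπ.maximalIdeal_eq, Ideal.mem_span_singleton] at hm
      obtain ⟨s, hs⟩ := hm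
      refine ⟨c • b, b ⊗ₜ s, ?_⟩
      rw [hP, ← hs]
      rw [TensorProduct.tmul_sub, TensorProduct.smul_tmul, Algebra.smul_def, mul_one]
      abel
  have hker : ∀ x : A, ψ x = 0 → P₀ ∣ x := by
    intro x hx
    obtain ⟨b, a, rfl⟩ := hdec x
    rw [map_add, map_mul, hψπ, zero_mul, add_zero] at hx
    have hb : b ∈ maximalIdeal B := by
      rw [← residue_eq_zero_iff, ← hx]
      show residue B b = algebraMap B (ResidueField B) b *
        algebraMap (ResidueField R) (ResidueField B) (σ (algebraMap R' _ 1))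
      rw [map_one, map_one, map_one, mul_one]
      rfl
    rw [hmax, hϖ.maximalIdeal_eq, Ideal.map_span, Set.image_singleton, Ideal.mem_span_singleton] at hb
    obtain ⟨b', rfl⟩ := hb
    have hm : algebraMap R R' ϖ ∈ maximalIdeal R' := fun h => hϖ.not_isUnit (isUnit_of_map_unit _ _ h)
    rw [hπ.maximalIdeal_eq, Ideal.mem_span_singleton] at hm
    obtain ⟨s, hs⟩ := hm
    refine dvd_add ⟨b' ⊗ₜ s, ?_⟩ (dvd_mul_right _ _)
    rw [hP, ← hs]
    rw [← Algebra.smul_def, TensorProduct.smul_tmul, Algebra.smul_def, mul_one]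
  have hP₀ : ¬ IsUnit P₀ := fun h => by
    have := h.map ψ
    rw [hψπ] at this
    exact not_isUnit_zero this
  have hmaxP : (Ideal.span {P₀}).IsMaximal := by
    have hsurj : Function.Surjective ψ := fun y => by
      obtain ⟨b, rfl⟩ := residue_surjective y
      refine ⟨b ⊗ₜ 1, ?_⟩
      show algebraMap B (ResidueField B) b * algebraMap (ResidueField R) (ResidueField B) (σ (algebraMap R' _ 1)) = _
      rw [map_one, map_one, map_one, mul_one]
      rfl
    have e : RingHom.ker ψ.toRingHom = Ideal.span {P₀} := le_antisymm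
      (fun x hx => Ideal.mem_span_singleton.2 (hker x hx))
      ((Ideal.span_singleton_le_iff_mem _).2 hψπ)
    exact e ▸ RingHom.ker_isMaximal_of_surjective ψ.toRingHom hsurj
  have hden : ∀ z : F ⊗[R] B, ∃ (n : ℕ) (a : A), z * ι P₀ ^ n = ι a := by
    intro z
    induction z using TensorProduct.induction_on with
    | zero => exact ⟨0, 0, by simp⟩
    | add x y hx hy =>
      obtain ⟨n, a, hn⟩ := hx
      obtain ⟨n', a', hn'⟩ := hy
      exact ⟨n + n', a * P₀ ^ n' + a' * P₀ ^ n, by
        rw [map_add, map_mul, map_mul, map_pow, map_pow, ← hn, ← hn', pow_add]; ring⟩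
    | tmul f b =>
      obtain ⟨c, ⟨d, hd⟩, rfl⟩ := IsLocalization.exists_mk'_eq (nonZeroDivisors R') f
      obtain ⟨n, v, hv⟩ := IsDiscreteValuationRing.eq_unit_mul_pow_irreducible (nonZeroDivisors.ne_zero hd) hπ
      have hιP : ι P₀ = algebraMap R' F π ⊗ₜ (1 : B) := hι 1 π
      refine ⟨n, b ⊗ₜ (c * ↑v⁻¹), ?_⟩
      rw [hιP, hι, Algebra.TensorProduct.tmul_pow, one_pow, Algebra.TensorProduct.tmul_mul_tmul, mul_one]
      congr 1
      rw [← map_pow]
      have hs : IsLocalization.mk' F c ⟨d, hd⟩ * algebraMap R' F d = algebraMap R' F c :=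
        IsLocalization.mk'_spec F c ⟨d, hd⟩
      generalize IsLocalization.mk' F c ⟨d, hd⟩ = m at hs ⊢
      rw [map_mul, ← hs, hv, map_mul, mul_assoc]
      congr 1
      rw [mul_comm (algebraMap R' F (v : R')), mul_assoc, ← map_mul, ← Units.val_mul, mul_inv_cancel, Units.val_one,
        map_one, mul_one]
  have hprime : ∀ P : Ideal A, P.IsPrime → P ≠ ⊥ → P = Ideal.span {P₀} := by
    intro P hP hne
    suffices P₀ ∈ P from
      (hmaxP.eq_of_le hP.ne_top ((Ideal.span_singleton_le_iff_mem _).2 this)).symm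
    obtain ⟨x, hxP, hx0⟩ := Submodule.exists_mem_ne_zero_of_ne_bot hne
    obtain ⟨n, a, hn⟩ := hden (ι x)⁻¹
    have hx : ι (x * a) = ι (P₀ ^ n) := by
      rw [map_mul, ← hn, ← mul_assoc, mul_inv_cancel₀ ((map_ne_zero_iff _ hιinj).2 hx0), one_mul, map_pow]
    exact hP.mem_of_pow_mem n (hιinj hx ▸ P.mul_mem_right a hxP)
  haveI : IsPrincipalIdealRing A := IsPrincipalIdealRing.of_prime_ne_bot fun P hP hne =>
    ⟨⟨P₀, hprime P hP hne⟩⟩
  have hP₀0 : P₀ ≠ 0 := fun h => by
    have h1 : ι P₀ = 0 := by rw [h, map_zero]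
    have h3 : (Algebra.TensorProduct.includeLeft : F →ₐ[R] F ⊗[R] B) (algebraMap R' F π) = 0 := (hι 1 π) ▸ h1
    exact hπ.ne_zero ((map_eq_zero_iff _ (IsFractionRing.injective R' F)).1
      ((map_eq_zero_iff _ (RingHom.injective (Algebra.TensorProduct.includeLeft : F →ₐ[R] F ⊗[R] B).toRingHom)).1 h3))
  haveI : IsLocalRing A := IsLocalRing.of_unique_max_ideal ⟨Ideal.span {P₀}, hmaxP, fun M hM =>
    hprime M hM.isPrime fun h => hP₀0 (by
      have := hM.eq_of_le hmaxP.ne_top (h ▸ bot_le)
      rw [h] at this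
      exact (Ideal.mem_bot).1 (this ▸ Ideal.mem_span_singleton_self P₀))⟩
  exact { not_a_field' := fun h => hP₀0 (by
            rw [← IsLocalRing.eq_maximalIdeal hmaxP] at h
            exact (Ideal.mem_bot).1 (h ▸ Ideal.mem_span_singleton_self P₀)) }

end Groth.Agent.ModelLib7
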