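import Groth.Agent.ModelLib7.GlobalFunctions
import Groth.Agent.AbVarLib.GeomIntegralSmooth
import Mathlib.RingTheory.TensorProduct.Maps
import Mathlib.RingTheory.IntegralClosure.IsIntegralClosure.Basic

/-!
# Geometric integrality of the generic fibre, read in the local ring of a component of the closed fibre
-/

set_option autoImplicit false
set_option backward.isDefEq.respectTransparency false
set_option linter.style.haveILetI false

universe u

open CategoryTheory CategoryTheory.Limits AlgebraicGeometry IsLocalRing TopologicalSpace
open scoped TensorProduct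

namespace Groth.Agent.ModelLib7

/-- The local ring at a point, as a scheme over the base. -/
theorem fromSpecStalk_comp_affine {R : Type u} [CommRing R] {X : Scheme.{u}} (f : X ⟶ Spec (CommRingCat.of R)) (x : X) :
    X.fromSpecStalk x ≫ f =
      Spec.map (CommRingCat.ofHom ((X.presheaf.germ ⊤ x trivial).hom.comp (Coh.toGlobal f))) := by
  have e : X.fromSpecStalk x ≫ f ≫ (Spec (CommRingCat.of R)).toSpecΓ =
      Spec.map (X.presheaf.germ ⊤ x trivial) ≫ Spec.map f.appTop := by
    rw [Scheme.toSpecΓ_naturality, ← Category.assoc, Scheme.fromSpecStalk_toSpecΓ]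
  rw [← cancel_mono ((Spec (CommRingCat.of R)).toSpecΓ), Category.assoc, e, ← SpecMap_ΓSpecIso_hom,
    ← Spec.map_comp, ← Spec.map_comp]
  congr 1
  ext a
  obtain ⟨r, rfl⟩ := (Scheme.ΓSpecIso (CommRingCat.of R)).symm.commRingCatIsoToRingEquiv.surjective a
  show (X.presheaf.germ ⊤ x trivial).hom (f.appTop.hom _) =
    (X.presheaf.germ ⊤ x trivial).hom (Coh.toGlobal f ((Scheme.ΓSpecIso (CommRingCat.of R)).hom _))
  congr 1
  show f.appTop.hom _ = f.appTop.hom ((Scheme.ΓSpecIso (CommRingCat.of R)).inv.hom _)
  congr 1
  exact ((Scheme.ΓSpecIso (CommRingCat.of R)).commRingCatIsoToRingEquiv.symm_apply_apply _).symm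

/-- If `f : X ⟶ Spec R` is proper flat with smooth generic fibre and connected reduced closed fibre over an
algebraically closed field, and `B` is a discrete valuation ring which is a local ring of `X` with the
uniformizer of `R` as uniformizer, then `F ⊗[R] B` is a field for every algebraic extension `F` of `Frac R`. -/
theorem isField_tensor_of_specialFibre (R : Type u) [CommRing R] [IsDomain R] [IsDiscreteValuationRing R]
    [IsAlgClosed (ResidueField R)] {X : Scheme.{u}} (f : X ⟶ Spec (CommRingCat.of R)) [IsProper f] [Flat f]
    {XK : Scheme.{u}} (gK : XK ⟶ X) (fK : XK ⟶ Spec (CommRingCat.of (FractionRing R)))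
    (hK : IsPullback gK fK f (Spec.map (CommRingCat.ofHom (algebraMap R (FractionRing R)))))
    [Smooth fK]
    [ConnectedSpace ↥(pullback f (Spec.map (CommRingCat.ofHom (algebraMap R (ResidueField R)))))]
    [AlgebraicGeometry.IsReduced (pullback f (Spec.map (CommRingCat.ofHom (algebraMap R (ResidueField R)))))]
    (x : X) (B : Type u) [CommRing B] [IsDomain B] [IsDiscreteValuationRing B] [Algebra R B]
    (e : X.presheaf.stalk x ≅ CommRingCat.of B)
    (he : e.hom.hom.comp ((X.presheaf.germ ⊤ x trivial).hom.comp (Coh.toGlobal f)) = algebraMap R B)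
    (hmax : maximalIdeal B = (maximalIdeal R).map (algebraMap R B))
    (F : Type u) [Field F] [Algebra (FractionRing R) F] [Algebra.IsAlgebraic (FractionRing R) F]
    [Algebra R F] [IsScalarTower R (FractionRing R) F] :
    IsField (F ⊗[R] B) := by
  haveI : Module.Flat R B := by
    have h1 := flat_germ_toGlobal f x
    have h2 : e.hom.hom.Flat := RingHom.Flat.of_bijective (ConcreteCategory.bijective_of_isIso e.hom)
    have h3 := h1.comp h2
    rw [he] at h3
    exact RingHom.flat_algebraMap_iff.1 h3
  have hinjF : Function.Injective (algebraMap R F) := by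
    rw [IsScalarTower.algebraMap_eq R (FractionRing R) F]
    exact (algebraMap (FractionRing R) F).injective.comp (IsFractionRing.injective R (FractionRing R))
  have hBinj : Function.Injective (Algebra.TensorProduct.includeRight : B →ₐ[R] F ⊗[R] B) := by
    have h1 : Function.Injective ((Algebra.linearMap R F).rTensor B) :=
      Module.Flat.rTensor_preserves_injective_linearMap (M := B) _ hinjF
    intro a b hab
    apply (TensorProduct.lid R B).symm.injective
    apply h1
    simpa [TensorProduct.lid_symm_apply] using hab
  haveI : Nontrivial (F ⊗[R] B) := hBinj.nontrivial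
  -- the domain
  let T := F ⊗[R] B
  let cF : Spec (CommRingCat.of F) ⟶ Spec (CommRingCat.of R) := Spec.map (CommRingCat.ofHom (algebraMap R F))
  let jB : Spec (CommRingCat.of B) ⟶ X := Spec.map e.hom ≫ X.fromSpecStalk x
  have hjB : jB ≫ f = Spec.map (CommRingCat.ofHom (algebraMap R B)) := by
    simp only [jB, Category.assoc, fromSpecStalk_comp_affine, ← Spec.map_comp]
    congr 1
    ext r
    exact RingHom.congr_fun he r
  haveI : Flat jB := by
    haveI : Flat (X.fromSpecStalk x) := by
      obtain ⟨_, ⟨(U : X.Opens), hU, rfl⟩, hxU, -⟩ :=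
        X.isBasis_affineOpens.exists_subset_of_mem_open (Set.mem_univ x) isOpen_univ
      rw [← hU.fromSpecStalk_eq_fromSpecStalk hxU, IsAffineOpen.fromSpecStalk]
      have : Flat (Spec.map (X.presheaf.germ U x hxU)) := by
        rw [Flat.SpecMap_iff]
        let := X.presheaf.algebra_section_stalk ⟨x, hxU⟩
        have := hU.isLocalization_stalk ⟨x, hxU⟩
        exact IsLocalization.flat (X.presheaf.stalk x) (hU.primeIdealOf ⟨x, hxU⟩).asIdeal.primeCompl
      infer_instance
    infer_instance
  haveI : IsPreimmersion jB := inferInstanceAs (IsPreimmersion (Spec.map e.hom ≫ X.fromSpecStalk x))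
  let Y := pullback f cF
  let u : Spec (CommRingCat.of F) ⟶ Spec (CommRingCat.of (FractionRing R)) :=
    Spec.map (CommRingCat.ofHom (algebraMap (FractionRing R) F))
  haveI hsm : Smooth (pullback.snd f cF) := by
    have hu : u ≫ Spec.map (CommRingCat.ofHom (algebraMap R (FractionRing R))) = cF := by
      simp only [u, cF, ← Spec.map_comp, ← CommRingCat.ofHom_comp, ← IsScalarTower.algebraMap_eq]
    let l : pullback f cF ⟶ XK := hK.lift (pullback.fst f cF) (pullback.snd f cF ≫ u)
      (by rw [Category.assoc, hu, pullback.condition])
    have h : IsPullback l (pullback.snd f cF) fK u := by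
      refine IsPullback.of_right ?_ (hK.lift_snd _ _ _) hK
      rw [hu, hK.lift_fst]
      exact IsPullback.of_hasPullback f cF
    exact MorphismProperty.of_isPullback (P := @Smooth) h ‹Smooth fK›
  haveI : IsIntegral Y := by
    haveI := geometricallyConnected_of_specialFibre R f
    haveI : GeometricallyConnected (pullback.snd f cF) := inferInstance
    haveI : ConnectedSpace ↥Y := GeometricallyConnected.connectedSpace_of_subsingleton (pullback.snd f cF)
    haveI : QuasiCompact (pullback.snd f cF) := inferInstance
    exact AbVarLib.isIntegral_of_smooth_connected (pullback.snd f cF)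
  let pF : Spec (CommRingCat.of T) ⟶ Spec (CommRingCat.of F) :=
    Spec.map (CommRingCat.ofHom (Algebra.TensorProduct.includeLeftRingHom))
  let pB : Spec (CommRingCat.of T) ⟶ Spec (CommRingCat.of B) :=
    Spec.map (CommRingCat.ofHom (Algebra.TensorProduct.includeRight (R := R) (A := F) (B := B)).toRingHom)
  have hT : IsPullback pF pB cF (Spec.map (CommRingCat.ofHom (algebraMap R B))) :=
    isPullback_SpecMap_of_isPushout _ _ _ _ (CommRingCat.isPushout_tensorProduct R F B)
  let m : Spec (CommRingCat.of T) ⟶ Y := pullback.lift (pB ≫ jB) pF (by rw [Category.assoc, hjB, hT.w])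
  have hm : IsPullback m pB (pullback.fst f cF) jB := by
    refine IsPullback.of_right ?_ (pullback.lift_fst _ _ _) (IsPullback.of_hasPullback f cF).flip
    rw [pullback.lift_snd, hjB]
    exact hT
  haveI : IsPreimmersion m := MorphismProperty.of_isPullback (P := @IsPreimmersion) hm.flip inferInstance
  haveI : Flat m := MorphismProperty.of_isPullback (P := @Flat) hm.flip inferInstance
  haveI : IsReduced (Spec (CommRingCat.of T)) := by
    have : ∀ z, _root_.IsReduced ((Spec (CommRingCat.of T)).presheaf.stalk z) := fun z => by
      have hinj : Function.Injective (m.stalkMap z).hom := by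
        letI := (m.stalkMap z).hom.toAlgebra
        haveI : Module.Flat (Y.presheaf.stalk (m z)) ((Spec (CommRingCat.of T)).presheaf.stalk z) := Flat.stalkMap m z
        haveI : IsLocalHom (algebraMap (Y.presheaf.stalk (m z)) ((Spec (CommRingCat.of T)).presheaf.stalk z)) :=
          inferInstanceAs (IsLocalHom (m.stalkMap z).hom)
        haveI := Module.FaithfullyFlat.of_flat_of_isLocalHom (A := Y.presheaf.stalk (m z))
          (B := (Spec (CommRingCat.of T)).presheaf.stalk z)
        exact FaithfulSMul.algebraMap_injective (Y.presheaf.stalk (m z)) ((Spec (CommRingCat.of T)).presheaf.stalk z)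
      exact isReduced_of_injective (RingEquiv.ofBijective _ ⟨hinj, m.stalkMap_surjective z⟩).symm.toRingHom
        (RingEquiv.ofBijective _ ⟨hinj, m.stalkMap_surjective z⟩).symm.injective
    exact isReduced_of_isReduced_stalk _
  haveI : IrreducibleSpace ↥(Spec (CommRingCat.of T)) := by
    obtain ⟨s₀⟩ : Nonempty ↥(Spec (CommRingCat.of T)) := inferInstanceAs (Nonempty (PrimeSpectrum T))
    obtain ⟨s', -, hs'⟩ := Flat.generalizingMap m (genericPoint_spec Y |>.specializes (Set.mem_univ (m s₀)))
    have h : IsGenericPoint s' (Set.univ : Set ↥(Spec (CommRingCat.of T))) := by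
      rw [isGenericPoint_iff_specializes]
      intro s
      refine ⟨fun _ => trivial, fun _ => ?_⟩
      rw [← m.isEmbedding.isInducing.specializes_iff, hs']
      exact genericPoint_spec Y |>.specializes trivial
    rw [irreducibleSpace_def, Set.top_eq_univ]
    exact h.isIrreducible
  haveI : IsDomain T := (affine_isIntegral_iff (CommRingCat.of T)).1 (isIntegral_of_irreducibleSpace_of_isReduced (Spec (CommRingCat.of T)))
  -- integrality over the fraction field of `B`
  obtain ⟨ϖ, hϖ⟩ := IsDiscreteValuationRing.exists_irreducible R
  have hϖB : Irreducible (algebraMap R B ϖ) := by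
    rw [IsDiscreteValuationRing.irreducible_iff_uniformizer, hmax, hϖ.maximalIdeal_eq, Ideal.map_span,
      Set.image_singleton]
  let L := FractionRing B
  let iB : B →+* T := (Algebra.TensorProduct.includeRight (R := R) (A := F) (B := B)).toRingHom
  have hu : ∀ b : nonZeroDivisors B, IsUnit (iB b) := by
    rintro ⟨b, hb⟩
    obtain ⟨n, v, hv⟩ := IsDiscreteValuationRing.eq_unit_mul_pow_irreducible (nonZeroDivisors.ne_zero hb) hϖB
    show IsUnit (iB b)
    rw [hv, map_mul, map_pow]
    refine (v.isUnit.map iB).mul (IsUnit.pow _ ?_)
    have e1 : iB (algebraMap R B ϖ) = algebraMap R T ϖ := AlgHom.commutes _ ϖ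
    rw [e1, IsScalarTower.algebraMap_apply R F T]
    exact ((map_ne_zero_iff _ hinjF).2 hϖ.ne_zero).isUnit.map _
  letI : Algebra L T := (IsLocalization.lift (S := L) hu).toAlgebra
  have hBL : ∀ b, algebraMap L T (algebraMap B L b) = iB b := fun b => IsLocalization.lift_eq hu b
  have hRB : Function.Injective (algebraMap R B) := FaithfulSMul.algebraMap_injective R B
  let φ : FractionRing R →+* L := IsFractionRing.lift (g := (algebraMap B L).comp (algebraMap R B))
    ((IsFractionRing.injective B L).comp hRB)
  have hcomp : (algebraMap L T).comp φ =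
      (Algebra.TensorProduct.includeLeftRingHom : F →+* T).comp (algebraMap (FractionRing R) F) := by
    refine IsLocalization.ringHom_ext (nonZeroDivisors R) (RingHom.ext fun r => ?_)
    show algebraMap L T (φ (algebraMap R (FractionRing R) r)) =
      (Algebra.TensorProduct.includeLeftRingHom : F →+* T) (algebraMap (FractionRing R) F (algebraMap R (FractionRing R) r))
    rw [show φ (algebraMap R (FractionRing R) r) = algebraMap B L (algebraMap R B r) from
      IsFractionRing.lift_algebraMap _ r, hBL, ← IsScalarTower.algebraMap_apply R (FractionRing R) F]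
    exact (AlgHom.commutes _ r).trans (IsScalarTower.algebraMap_apply R F T r)
  haveI : Algebra.IsIntegral L T := ⟨fun t => by
    induction t using TensorProduct.induction_on with
    | zero => exact isIntegral_zero
    | add a b ha hb => exact ha.add hb
    | tmul a b =>
      have h1 : IsIntegral L ((Algebra.TensorProduct.includeLeftRingHom : F →+* T) a) :=
        IsIntegral.map_of_comp_eq φ _ hcomp (Algebra.IsAlgebraic.isAlgebraic a).isIntegral
      have h2 : IsIntegral L (iB b) := by rw [← hBL]; exact isIntegral_algebraMap
      have e3 : a ⊗ₜ[R] b = (Algebra.TensorProduct.includeLeftRingHom : F →+* T) a * iB b := by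
        show _ = (a ⊗ₜ[R] (1 : B)) * ((1 : F) ⊗ₜ[R] b)
        rw [Algebra.TensorProduct.tmul_mul_tmul, mul_one, one_mul]
      rw [e3]
      exact h1.mul h2⟩
  exact isField_of_isIntegral_of_isField' (Field.toIsField L)

end Groth.Agent.ModelLib7
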