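import Groth.Agent.ModelLib7.SpecialFibre
import Groth.Agent.AbSchLib.GlobalSections
import Groth.Agent.Coherent.NormalPoint
import Groth.Agent.Coherent.GeomConnected
import Groth.Agent.Coherent.NormalPush

/-!
# Global functions of a proper flat scheme over a discrete valuation ring with reduced connected closed fibre
-/

set_option autoImplicit false
set_option backward.isDefEq.respectTransparency false
set_option linter.style.haveILetI false

universe u

open CategoryTheory CategoryTheory.Limits AlgebraicGeometry IsLocalRing TopologicalSpace Opposite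

namespace Groth.Agent.ModelLib7

/-- A global function with germs divisible by a non-zero-divisor is divisible by it. -/
theorem exists_global_mul_of_germ {X : Scheme.{u}} (g a : Γ(X, ⊤))
    (hg : ∀ (x : X) (c : X.presheaf.stalk x), (X.presheaf.germ ⊤ x trivial).hom g * c = 0 → c = 0)
    (ha : ∀ x : X, ∃ c, (X.presheaf.germ ⊤ x trivial).hom a = (X.presheaf.germ ⊤ x trivial).hom g * c) :
    ∃ b : Γ(X, ⊤), a = g * b := by
  have H : ∀ x : X, ∃ (V : X.Opens) (_ : x ∈ V) (c : Γ(X, V)),
      (X.presheaf.map (homOfLE (le_top : V ≤ ⊤)).op).hom a =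
        (X.presheaf.map (homOfLE (le_top : V ≤ ⊤)).op).hom g * c := by
    intro x
    obtain ⟨c, hc⟩ := ha x
    obtain ⟨W, hxW, c', rfl⟩ := X.presheaf.germ_exist c
    have e : (X.presheaf.germ W x hxW).hom ((X.presheaf.map (homOfLE (le_top : W ≤ ⊤)).op).hom a) =
        (X.presheaf.germ W x hxW).hom ((X.presheaf.map (homOfLE (le_top : W ≤ ⊤)).op).hom g * c') := by
      rw [map_mul, TopCat.Presheaf.germ_res_apply, TopCat.Presheaf.germ_res_apply]; exact hc
    obtain ⟨V, hxV, iV, iV', hV⟩ := X.presheaf.germ_eq x hxW hxW _ _ e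
    refine ⟨V, hxV, (X.presheaf.map iV.op).hom c', ?_⟩
    obtain rfl : iV = iV' := Subsingleton.elim _ _
    rw [map_mul] at hV
    simp only [← CommRingCat.comp_apply, ← X.presheaf.map_comp] at hV
    exact hV
  choose V hxV c hc using H
  have hcompat : TopCat.Presheaf.IsCompatible X.presheaf V c := by
    intro i j
    apply TopCat.Presheaf.section_ext X.sheaf
    intro y hy
    show (X.presheaf.germ (V i ⊓ V j) y hy).hom _ = (X.presheaf.germ (V i ⊓ V j) y hy).hom _
    rw [TopCat.Presheaf.germ_res_apply, TopCat.Presheaf.germ_res_apply]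
    have h1 := congrArg (X.presheaf.germ (V i) y hy.1).hom (hc i)
    have h2 := congrArg (X.presheaf.germ (V j) y hy.2).hom (hc j)
    rw [map_mul, TopCat.Presheaf.germ_res_apply, TopCat.Presheaf.germ_res_apply] at h1 h2
    rw [← sub_eq_zero]
    apply hg y
    rw [mul_sub, ← h1, ← h2, sub_self]
  obtain ⟨b, hb, -⟩ := X.sheaf.existsUnique_gluing' V ⊤ (fun i => homOfLE le_top)
    (fun x _ => Opens.mem_iSup.2 ⟨x, hxV x⟩) c hcompat
  let b' : Γ(X, ⊤) := b
  refine ⟨b', ?_⟩
  apply TopCat.Presheaf.section_ext X.sheaf
  intro y hy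
  have h1 := congrArg (X.presheaf.germ (V y) y (hxV y)).hom (hc y)
  have h2 := congrArg (X.presheaf.germ (V y) y (hxV y)).hom (hb y)
  rw [map_mul, TopCat.Presheaf.germ_res_apply, TopCat.Presheaf.germ_res_apply] at h1
  replace h2 := (TopCat.Presheaf.germ_res_apply X.presheaf (homOfLE (le_top : V y ≤ ⊤)) y (hxV y) b).symm.trans h2
  show (X.presheaf.germ ⊤ y hy).hom a = (X.presheaf.germ ⊤ y hy).hom (g * b')
  rw [map_mul, h1]
  exact congrArg (_ * ·) h2.symm

/-- `f_* O_X = R` for a proper flat scheme over a discrete valuation ring with algebraically closed residue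
field whose closed fibre is connected and reduced. -/
theorem bijective_toGlobal_of_specialFibre (R : Type u) [CommRing R] [IsDomain R] [IsDiscreteValuationRing R]
    [IsAlgClosed (ResidueField R)] {X : Scheme.{u}} (f : X ⟶ Spec (CommRingCat.of R)) [IsProper f] [Flat f]
    [ConnectedSpace ↥(pullback f (Spec.map (CommRingCat.ofHom (algebraMap R (ResidueField R)))))]
    [IsReduced (pullback f (Spec.map (CommRingCat.ofHom (algebraMap R (ResidueField R)))))] :
    Function.Bijective (Coh.toGlobal f) := by
  let t : R →+* Γ(X, ⊤) := f.appTop.hom.comp (Scheme.ΓSpecIso (CommRingCat.of R)).inv.hom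
  show Function.Bijective t
  let i : Spec (CommRingCat.of (ResidueField R)) ⟶ Spec (CommRingCat.of R) :=
    Spec.map (CommRingCat.ofHom (algebraMap R (ResidueField R)))
  let j := pullback.fst f i
  let q := pullback.snd f i
  obtain ⟨ϖ, hϖ⟩ := IsDiscreteValuationRing.exists_irreducible R
  letI : Algebra R Γ(X, ⊤) := (t).toAlgebra
  have hreg : ∀ (x : X) (r : R), r ≠ 0 → ∀ c : X.presheaf.stalk x,
      (X.presheaf.germ ⊤ x trivial).hom (t r) * c = 0 → c = 0 := by
    intro x r hr c hc
    letI := (((X.presheaf.germ ⊤ x trivial).hom).comp (t)).toAlgebra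
    haveI : Module.Flat R (X.presheaf.stalk x) := flat_germ_toGlobal f x
    apply Module.Flat.isSMulRegular_of_isRegular (M := X.presheaf.stalk x) (IsRegular.of_ne_zero hr)
    show r • c = r • (0 : X.presheaf.stalk x)
    rw [smul_zero, Algebra.smul_def]
    exact hc
  obtain ⟨z₀⟩ := (inferInstance : Nonempty ↥(pullback f i))
  refine ⟨?_, ?_⟩
  · rw [injective_iff_map_eq_zero]
    intro r hr
    by_contra hne
    exact one_ne_zero (hreg (j z₀) r hne 1 (by rw [hr, map_zero, zero_mul]))
  haveI : IsNoetherianRing R := inferInstance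
  have hfin : (t).Finite := RingHom.Finite.comp
    (Coherent.finite_app_of_isProper f (isAffineOpen_top _))
    (RingHom.Finite.of_surjective _ (Scheme.ΓSpecIso (CommRingCat.of R)).symm.commRingCatIsoToRingEquiv.surjective)
  haveI : Module.Finite R Γ(X, ⊤) := hfin
  have hq := AbSchLib.surjective_appTop_of_isAlgClosed (ResidueField R) q
  have key : ∀ a : Γ(X, ⊤), ∃ (r : R) (b : Γ(X, ⊤)), a = t r + t ϖ * b := by
    intro a
    obtain ⟨c, hc⟩ := hq (j.appTop a)
    obtain ⟨c', rfl⟩ := (Scheme.ΓSpecIso (CommRingCat.of (ResidueField R))).symm.commRingCatIsoToRingEquiv.surjective c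
    obtain ⟨r, rfl⟩ := residue_surjective c'
    have hr : j.appTop (a - t r) = 0 := by
      rw [map_sub, sub_eq_zero, ← hc]
      have e : f.appTop ≫ j.appTop = i.appTop ≫ q.appTop := by
        rw [← Scheme.Hom.comp_appTop, ← Scheme.Hom.comp_appTop, pullback.condition]
      have e' := congr($e ((Scheme.ΓSpecIso (CommRingCat.of R)).inv r))
      have e'' := congr($(Scheme.ΓSpecIso_inv_naturality (CommRingCat.ofHom (algebraMap R (ResidueField R)))) r)
      refine Eq.trans ?_ e'.symm
      exact congrArg q.appTop.hom e''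
    obtain ⟨b, hb⟩ := exists_global_mul_of_germ (t ϖ) (a - t r)
      (fun x => hreg x ϖ hϖ.ne_zero) fun x => by
      by_cases hx : x ∈ Set.range j
      · obtain ⟨z, rfl⟩ := hx
        have hm : (j.stalkMap z).hom ((X.presheaf.germ ⊤ (j z) trivial).hom (a - t r)) = 0 := by
          rw [Scheme.Hom.germ_stalkMap_apply]
          exact (congrArg _ hr).trans (map_zero _)
        rw [← RingHom.mem_ker, (ker_stalkMap_closedFibre f z).2, hϖ.maximalIdeal_eq, Ideal.map_span,
          Set.image_singleton, Ideal.mem_span_singleton] at hm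
        exact hm
      · have hu : IsUnit ((X.presheaf.germ ⊤ x trivial).hom (t ϖ)) := by
          rw [← Scheme.mem_basicOpen X (t ϖ) x trivial]
          by_contra hb
          have hfx : f x ∈ Set.range i := by
            refine ⟨closedPoint (ResidueField R), ?_⟩
            apply PrimeSpectrum.ext
            show Ideal.comap (algebraMap R (ResidueField R)) (maximalIdeal (ResidueField R)) = _
            have hmem : ϖ ∈ (f x : PrimeSpectrum R).asIdeal := by
              by_contra hn
              apply hb
              have e := Scheme.preimage_basicOpen f ((Scheme.ΓSpecIso (CommRingCat.of R)).inv.hom ϖ)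
              rw [basicOpen_eq_of_affine (R := CommRingCat.of R) ϖ] at e
              exact e.le hn
            rw [show maximalIdeal (ResidueField R) = ⊥ from maximalIdeal_eq_bot,
              ← RingHom.ker_eq_comap_bot]
            refine Eq.trans (ker_residue (R := R)) ?_
            refine ((maximalIdeal.isMaximal R).eq_of_le (f x : PrimeSpectrum R).2.ne_top ?_)
            rw [hϖ.maximalIdeal_eq, Ideal.span_singleton_le_iff_mem]
            exact hmem
          obtain ⟨k, hk⟩ := hfx
          obtain ⟨z, hz, -⟩ := Scheme.Pullback.exists_preimage_pullback (f := f) (g := i) x k hk.symm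
          exact hx ⟨z, hz⟩
        exact ⟨↑hu.unit⁻¹ * (X.presheaf.germ ⊤ x trivial).hom (a - t r), by
          rw [← mul_assoc, IsUnit.mul_val_inv, one_mul]⟩
    exact ⟨r, b, by rw [← hb]; ring⟩
  have htop : LinearMap.range (Algebra.linearMap R Γ(X, ⊤)) = ⊤ := by
    refine eq_top_iff.2 (Submodule.le_of_le_smul_of_le_jacobson_bot Module.Finite.fg_top (maximalIdeal_le_jacobson ⊥) ?_)
    rintro a -
    obtain ⟨r, b, rfl⟩ := key a
    exact Submodule.add_mem_sup ⟨r, rfl⟩ (by
      rw [show t ϖ * b = ϖ • b from (Algebra.smul_def ϖ b).symm]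
      exact Submodule.smul_mem_smul (hϖ.maximalIdeal_eq ▸ Ideal.mem_span_singleton_self ϖ) trivial)
  intro a
  obtain ⟨r, hr⟩ := htop.ge (trivial : a ∈ (⊤ : Submodule R Γ(X, ⊤)))
  exact ⟨r, hr⟩

/-- Such a scheme has geometrically connected fibres. -/
theorem geometricallyConnected_of_specialFibre (R : Type u) [CommRing R] [IsDomain R] [IsDiscreteValuationRing R]
    [IsAlgClosed (ResidueField R)] {X : Scheme.{u}} (f : X ⟶ Spec (CommRingCat.of R)) [IsProper f] [Flat f]
    [ConnectedSpace ↥(pullback f (Spec.map (CommRingCat.ofHom (algebraMap R (ResidueField R)))))]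
    [IsReduced (pullback f (Spec.map (CommRingCat.ofHom (algebraMap R (ResidueField R)))))] :
    GeometricallyConnected f := by
  haveI : IsNoetherianRing R := inferInstance
  refine Coherent.geometricallyConnected_of_isIso_app f (Coherent.isIso_app_of_bijective_app_top f ?_)
  have h := bijective_toGlobal_of_specialFibre R f
  have e := (Scheme.ΓSpecIso (CommRingCat.of R)).symm.commRingCatIsoToRingEquiv.bijective
  exact (Function.Bijective.of_comp_iff _ e).1 h

end Groth.Agent.ModelLib7
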