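import Mathlib.AlgebraicGeometry.Morphisms.ClosedImmersion
import Mathlib.AlgebraicGeometry.Restrict
import Mathlib.RingTheory.DiscreteValuationRing.TFAE
import Mathlib.RingTheory.KrullDimension.Field

/-!
# Closed immersions which are isomorphisms away from a non-zero-divisor
-/

set_option autoImplicit false
set_option backward.isDefEq.respectTransparency false

universe u

open CategoryTheory CategoryTheory.Limits AlgebraicGeometry

namespace Groth.Agent.ModelLib7

/-- A Noetherian local integrally closed domain of dimension one is a discrete valuation ring. -/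
theorem isDVR_of_dim_one (A : Type u) [CommRing A] [IsDomain A] [IsLocalRing A] [IsNoetherianRing A]
    [IsIntegrallyClosed A] (h : ringKrullDim A = 1) : IsDiscreteValuationRing A := by
  have hf : ¬ IsField A := fun hF => by
    rw [ringKrullDim_eq_zero_of_isField hF] at h
    exact zero_ne_one h
  have : Ring.KrullDimLE 1 A := Ring.krullDimLE_iff.2 h.le
  have : Ring.DimensionLEOne A := ⟨fun {_} h0 hp => hp.isMaximal_of_ne_bot h0⟩
  have : IsDedekindDomain A := {}
  exact ((IsDiscreteValuationRing.TFAE A hf).out 0 2).2 ‹IsDedekindDomain A›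

/-- A closed immersion which is an isomorphism over the locus where a global function `g` is invertible
is an isomorphism, as soon as `g` is a non-zero-divisor in all local rings. -/
theorem isIso_of_isIso_restrict_basicOpen {Q P : Scheme.{u}} (s : Q ⟶ P) [IsClosedImmersion s]
    (g : Γ(P, ⊤)) (hg : ∀ (x : P) (a : P.presheaf.stalk x),
      (P.presheaf.germ ⊤ x trivial).hom g * a = 0 → a = 0)
    [IsIso (s ∣_ P.basicOpen g)] : IsIso s := by
  have hst : ∀ x ∈ P.basicOpen g, ∃ z : Q, s z = x ∧ Function.Injective (s.stalkMap z).hom := by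
    intro x hx
    obtain ⟨z, hz⟩ := (inferInstance : Surjective (s ∣_ P.basicOpen g)).1 ⟨x, hx⟩
    refine ⟨z.1, ?_, ?_⟩
    · have := congrArg Subtype.val hz
      rwa [morphismRestrict_base] at this
    · have h1 : MorphismProperty.isomorphisms CommRingCat.{u} ((s ∣_ P.basicOpen g).stalkMap z) :=
        inferInstanceAs (IsIso ((s ∣_ P.basicOpen g).stalkMap z))
      have h2 : IsIso (s.stalkMap z.1) :=
        ((MorphismProperty.isomorphisms CommRingCat.{u}).arrow_mk_iso_iff
          (morphismRestrictStalkMap s (P.basicOpen g) z)).1 h1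
      exact (ConcreteCategory.bijective_of_isIso (s.stalkMap z.1)).1
  rw [IsClosedImmersion.isIso_iff_ker_eq_bot]
  apply Scheme.IdealSheafData.ext
  funext U
  rw [Scheme.Hom.ker_apply, Scheme.IdealSheafData.ideal_bot, Pi.bot_apply, eq_bot_iff]
  intro a ha
  rw [RingHom.mem_ker] at ha
  rw [Ideal.mem_bot]
  let gU : Γ(P, U.1) := (P.presheaf.map (homOfLE (le_top : U.1 ≤ ⊤)).op).hom g
  have : IsLocalization.Away gU Γ(P, P.basicOpen gU) := U.2.isLocalization_basicOpen gU
  have hD : algebraMap Γ(P, U.1) Γ(P, P.basicOpen gU) a = 0 := by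
    apply TopCat.Presheaf.section_ext P.sheaf
    intro x hx
    have hxU : x ∈ U.1 := P.basicOpen_le gU hx
    have hxg : x ∈ P.basicOpen g := by
      have := hx
      rw [Scheme.basicOpen_res] at this
      exact this.2
    obtain ⟨z, hzx, hinj⟩ := hst x hxg
    subst hzx
    have hr : (P.presheaf.germ (P.basicOpen gU) (s z) hx).hom (algebraMap Γ(P, U.1) Γ(P, P.basicOpen gU) a) =
        (P.presheaf.germ U.1 (s z) hxU).hom a :=
      TopCat.Presheaf.germ_res_apply P.presheaf (homOfLE (P.basicOpen_le gU)) (s z) hx a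
    show (P.presheaf.germ (P.basicOpen gU) (s z) hx).hom _ = (P.presheaf.germ (P.basicOpen gU) (s z) hx).hom 0
    rw [hr, map_zero]
    apply hinj
    rw [map_zero, Scheme.Hom.germ_stalkMap_apply, ha, map_zero]
  obtain ⟨⟨_, n, rfl⟩, hn⟩ := (IsLocalization.map_eq_zero_iff (Submonoid.powers gU) _ a).1 hD
  apply TopCat.Presheaf.section_ext P.sheaf
  intro x hx
  show (P.presheaf.germ U.1 x hx).hom a = (P.presheaf.germ U.1 x hx).hom 0
  rw [map_zero]
  have hgerm : (P.presheaf.germ U.1 x hx).hom gU = (P.presheaf.germ ⊤ x trivial).hom g :=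
    TopCat.Presheaf.germ_res_apply P.presheaf (homOfLE (le_top : U.1 ≤ ⊤)) x hx g
  have hn' := congrArg (P.presheaf.germ U.1 x hx).hom hn
  simp only [map_mul, map_pow, map_zero, hgerm] at hn'
  clear hn hD
  induction n with
  | zero => simpa using hn'
  | succ k ih => exact ih (hg x _ (by rw [← mul_assoc, ← pow_succ']; exact hn'))

end Groth.Agent.ModelLib7
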