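import Groth.Agent.EGA43.FlatDescent.SchemeOpen
import Groth.Agent.SchMor12.ClosedImmersionNhd
import Groth.Agent.ZeroCyc.FlatDescentNoQC
import Groth.Agent.MorProj.ProperFinite

/-!
# A proper morphism which is an isomorphism over a local ring is one over a neighbourhood
-/

set_option autoImplicit false

universe u

open CategoryTheory CategoryTheory.Limits AlgebraicGeometry

namespace Groth.Agent.ModelLib7

theorem exists_isIso_nhd_of_isIso_pullback_fromSpecStalk {X Y : Scheme.{u}} (f : X ⟶ Y)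
    [IsLocallyNoetherian Y] [IsProper f] (y : Y) [IsIso (pullback.snd f (Y.fromSpecStalk y))] :
    ∃ W : Y.Opens, y ∈ W ∧ IsIso (f ∣_ W) := by
  have hfib : IsIso (f.fiberToSpecResidueField y) := by
    show IsIso (pullback.snd f (Spec.map (Y.residue y) ≫ Y.fromSpecStalk y))
    exact ZeroCyc.isIso_pullback_snd_of_isPullback f _ _
  obtain ⟨W₁, hy₁, hW₁⟩ := SchMor12.exists_isClosedImmersion_nhd f y (Or.inr hfib) (V := ⊤) trivial
    inferInstance
  have hflat : ∀ x : X, f x = y → (f.stalkMap x).hom.Flat := by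
    intro x hx
    subst hx
    have : IsIso (f.stalkMap x) := ZeroCyc.isIso_stalkMap_of_isIso_pullback f x
    exact RingHom.Flat.of_bijective (ConcreteCategory.bijective_of_isIso (f.stalkMap x))
  let N : Set X := {x | (f.stalkMap x).hom.Flat}
  have hN : IsOpen N := EGA43.FlatDescent.isOpen_flat_stalkMap f
  let W₂ : Y.Opens := W₁ ⊓ ⟨(f '' Nᶜ)ᶜ, (f.isClosedMap _ hN.isClosed_compl).isOpen_compl⟩
  have hy₂ : y ∈ W₂ := ⟨hy₁, fun ⟨x, hx, hxy⟩ => hx (hflat x hxy)⟩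
  have : IsClosedImmersion (f ∣_ W₂) := MorProj.restrict_of_le @IsClosedImmersion f inf_le_left hW₁
  have : Flat (f ∣_ W₂) := by
    rw [Flat.iff_flat_stalkMap]
    intro x
    rw [RingHom.Flat.respectsIso.arrow_mk_iso_iff (morphismRestrictStalkMap f W₂ x)]
    exact by_contra fun hx => x.2.2 ⟨_, hx, rfl⟩
  have : IsOpenImmersion (f ∣_ W₂) := IsOpenImmersion.of_flat_of_mono _
  let W₃ : Y.Opens := W₂.ι ''ᵁ (f ∣_ W₂).opensRange
  have hy₃ : y ∈ W₃ := by
    obtain ⟨p, hp⟩ := (inferInstance : Surjective (f.fiberToSpecResidueField y)).1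
      (IsLocalRing.closedPoint (Y.residueField y))
    have hx : f (f.fiberι y p) = y := (f.range_fiberι y).le ⟨p, rfl⟩
    exact ⟨⟨y, hy₂⟩, ⟨⟨f.fiberι y p, by show f _ ∈ W₂; rw [hx]; exact hy₂⟩, Subtype.ext (congr($(morphismRestrict_ι f W₂) ⟨f.fiberι y p, by show f _ ∈ W₂; rw [hx]; exact hy₂⟩).trans hx)⟩, rfl⟩
  refine ⟨W₃, hy₃, ?_⟩
  have hle₃ : W₃ ≤ W₂ := W₂.ι_image_le _
  have : IsOpenImmersion (f ∣_ W₃) := MorProj.restrict_of_le @IsOpenImmersion f hle₃ ‹_›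
  have : Surjective (f ∣_ W₃) := by
    rw [surjective_iff]
    rintro ⟨_, ⟨_, ⟨x, rfl⟩, rfl⟩⟩
    have hpt := congr($(morphismRestrict_ι f W₂) x)
    exact ⟨⟨x.1, ⟨_, ⟨x, rfl⟩, hpt⟩⟩,
      Subtype.ext (congr($(morphismRestrict_ι f W₃) ⟨x.1, ⟨_, ⟨x, rfl⟩, hpt⟩⟩).trans hpt.symm)⟩
  exact (isIso_iff_isOpenImmersion_and_surjective _).2 ⟨inferInstance, inferInstance⟩

end Groth.Agent.ModelLib7
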